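import Cfsg.Agent.H856.Om7.Cross
import Cfsg.Agent.H922.OmGL

/-!
# Irreducible subgroups of `Ω₇(q)`, `q ≥ 31` odd, with a large primitive prime power of order 6 (helper856)

`irr_six` : `H ≤ Ω₇(q)` irreducible, `Ω₇(q) ≰ H`, `r^a ∣ |H|` with `r^a > 13`, `r` primitive of order 6: the residual core `P`
has `Soc P ≃ G₂(q)`, or `|P| ≥ q³(q³+1)(q-1)` and no primitive prime of order 3 divides `|H|`.
-/

set_option autoImplicit false
set_option linter.unusedSectionVars false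

namespace Cfsg.Agent.H856.Om7

open QuadraticMap Matrix Cfsg Cfsg.Geo Cfsg.Agent.H915.LD Cfsg.Agent.H936.List12 Cfsg.Agent.H912.Bd
  Cfsg.Agent.H912.Five
open Cfsg.Agent.LieClassical.OrthCore Cfsg.Agent.H856.Tz Cfsg.Agent.H884.El

universe u v

variable {ι : Type} [Fintype ι] [DecidableEq ι] {F : Type u} [Field F]

namespace D7

variable [Fintype F] {p f r a : ℕ} {Q : QuadraticForm F (ι → F)} {H P : Subgroup (GL ι F)} (c : D7 p f Q H P r a)
include c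

/-- own characteristic -/
theorem own {P' : Subgroup (GL (Fin 7) F)} (h' : Cop P P') (h : H905.Md.SmallDC p 7 (Soc P'))
    (hOm : ¬ (IsPOmegaOdd (Soc P) ∨
      (∃ (K : Type) (_ : Field K) (_ : Fintype K) (k : ℕ), 4 ≤ k ∧ Odd (Fintype.card K) ∧
        Nonempty (Soc P ≃* Cfsg.POmega K (quadFormPlus k K))) ∨
      ∃ (K : Type) (_ : Field K) (_ : Fintype K) (k : ℕ) (a b : K), 4 ≤ k ∧ Odd (Fintype.card K) ∧
        (∀ z₁ z₂ : K, z₁ ^ 2 + a * z₁ * z₂ + b * z₂ ^ 2 = 0 → z₁ = 0 ∧ z₂ = 0) ∧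
        Nonempty (Soc P ≃* Cfsg.POmega K (quadFormMinus (k - 1) K a b)))) : Concl6 p f H P := by
  have hp := Fact.mk c.prime
  have := c.charP
  obtain ⟨s⟩ := h'.iso
  have hseven := c.seven
  have h2 := c.ne_two
  have two_odd : ∀ (K : Type) [Field K] [Fintype K] [CharP K p], Odd (Fintype.card K) := by
    intro K _ _ _
    obtain ⟨k, -, hk⟩ := FiniteField.card K p
    rw [hk]
    exact (hp.out.odd_of_ne_two c.ne_two).pow
  rcases h with h | h | h | ⟨h2', -⟩ | ⟨h3, h⟩ | h | h | h | h | h | ⟨-, h2', -⟩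
  · obtain ⟨K, iK, iKf, iKp, l, hl, hl4, ⟨e⟩⟩ := h
    rcases (show l = 1 ∨ l = 2 ∨ 3 ≤ l by omega) with rfl | rfl | hl3
    · exact (c.own_l2 K (s.trans e)).elim
    · exact (c.own_l3 K (s.trans e)).elim
    · exact (own_psl (p := p) h'.core h'.fixQ (by omega) e).elim
  · obtain ⟨K, iK, iKf, iKp, m, hm, hm2, hm3, ⟨e⟩⟩ := h
    by_cases h3 : m = 2
    · subst h3
      have h1 := (H905.Sp4.core_psp4 p c.core (K := K) (by rw [Nat.card_eq_fintype_card]; exact hm3 rfl) (s.trans e)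
        (by rw [hseven]; norm_num)).2.2
      rw [hseven] at h1
      omega
    · have h1 := H879.TL.kill_psp c.core c.two c.bot (by omega) (two_odd K) (s.trans e)
      rw [hseven] at h1
      omega
  · obtain ⟨K, iK, iKf, iKp, N, q, hK, hN, hN2, hN3, ⟨e⟩⟩ := h
    rcases (show N = 3 ∨ N = 4 ∨ 5 ≤ N by omega) with rfl | rfl | hN5
    · refine c.own_u3 K hK ?_ (s.trans e)
      have h4 := Fintype.one_lt_card (α := K)
      rw [hK] at h4
      by_contra hq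
      have h5 : q = 0 ∨ q = 1 ∨ q = 2 := by omega
      rcases h5 with rfl | rfl | rfl
      · norm_num at h4
      · norm_num at h4
      · exact hN3 ⟨rfl, rfl⟩
    · exact (H876.D3.not_four_seven p K c.seven hK c.core (s.trans e)).elim
    · exact (H879.Nine.own_psu (p := p) (by norm_num) h'.core h'.sd hN5 hK e).elim
  · exact absurd h2' h2
  · obtain ⟨K, iK, iKf, m, hm, hK, ⟨e⟩⟩ := h
    exact c.own_ree h3 ⟨K, iK, iKf, m, hm, hK, ⟨s.trans e⟩⟩
  · obtain ⟨K, iK, iKf, iKp, m, hm, hm2, ho, ⟨e⟩⟩ := h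
    exact (hOm (Or.inl ⟨K, iK, iKf, m, hm, ho, ⟨s.trans e⟩⟩)).elim
  · obtain ⟨K, iK, iKf, iKp, m, hm, hm2, ⟨e⟩⟩ := h
    omega
  · obtain ⟨K, iK, iKf, iKp, m, a, b, hm, hm2, hab, ⟨e⟩⟩ := h
    exact (hOm (Or.inr (Or.inr ⟨K, iK, iKf, m, a, b, hm, two_odd K, hab, ⟨s.trans e⟩⟩))).elim
  · obtain ⟨-, K, iK, iKf, iKp, h3, ⟨e⟩⟩ := h
    exact c.own_g2 K h3 (s.trans e)
  · obtain ⟨-, K, iK, iKf, iKp, q, hq, hK, ⟨e⟩⟩ := h
    have h1 := (H392.TD.d4_small p c.core hq hK (s.trans e) (by rw [hseven]; norm_num)).1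
    omega
  · exact absurd h2' h2

/-- **the conclusion** -/
theorem main (hk : H879.Nine.Known.{u})
    (hOm : ¬ (IsPOmegaOdd (Soc P) ∨
      (∃ (K : Type) (_ : Field K) (_ : Fintype K) (k : ℕ), 4 ≤ k ∧ Odd (Fintype.card K) ∧
        Nonempty (Soc P ≃* Cfsg.POmega K (quadFormPlus k K))) ∨
      ∃ (K : Type) (_ : Field K) (_ : Fintype K) (k : ℕ) (a b : K), 4 ≤ k ∧ Odd (Fintype.card K) ∧
        (∀ z₁ z₂ : K, z₁ ^ 2 + a * z₁ * z₂ + b * z₂ ^ 2 = 0 → z₁ = 0 ∧ z₂ = 0) ∧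
        Nonempty (Soc P ≃* Cfsg.POmega K (quadFormMinus (k - 1) K a b)))) : Concl6 p f H P := by
  have hp := Fact.mk c.prime
  have := c.charP
  obtain ⟨P', h'⟩ := c.cop
  have hs : IsSimpleGroup (Soc P') := h'.core.simple
  by_cases hL : IsLieTypeChar p (Soc P')
  · have h1 := H905.Md.small_dc (p := p) h'.core.absIrred.1 h'.core.perfect hL
      (by rw [Fintype.card_fin]; norm_num)
    rw [Fintype.card_fin] at h1
    exact c.own h' h1 hOm
  · rcases list₁ (by norm_num) h'.core (hk _ hs) hL with h1 | h1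
    · exact (c.cross h' h1).elim
    · exact absurd h1.1 c.ne_two

end D7

/-- **irreducible subgroups of `Ω₇(q)`, `q ≥ 31` odd, with a large primitive prime power of order 6** -/
theorem irr_six (hk : H879.Nine.Known.{u}) {F : Type u} [Field F] [Fintype F] {p f : ℕ} (hp : p.Prime) (hp2 : p ≠ 2)
    (hf : 1 ≤ f) (hF : Nat.card F = p ^ f) (h31 : 31 ≤ p ^ f) {H : Subgroup (GL (Unit ⊕ (Fin 3 ⊕ Fin 3)) F)}
    (hH : H ≤ omegaGL (quadFormOdd 3 F)) (hne : ¬ omegaGL (quadFormOdd 3 F) ≤ H) (hirr : ActsIrreducibly (matrixSet H))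
    {r a : ℕ} (hr : PP p (f * 6) r) (hb : 13 < r ^ a) (hd : r ^ a ∣ Nat.card H) :
    ∃ P, IsResidualCore H P ∧ (Nonempty (Soc P ≃* Lie.chevG2.group F) ∨
      ((p ^ f) ^ 3 * ((p ^ f) ^ 3 + 1) * (p ^ f - 1) ≤ Nat.card P ∧ ∀ s, PP p (f * 3) s → ¬ s ∣ Nat.card H)) := by
  have hpf := Fact.mk hp
  have hch : CharP F p := charP_of_card_eq_prime_pow (by rw [← Nat.card_eq_fintype_card, hF])
  have hodd : Odd (Fintype.card F) := by
    rw [← Nat.card_eq_fintype_card, hF]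
    exact (hp.odd_of_ne_two hp2).pow
  have h2 : (2 : F) ≠ 0 := by
    intro h0
    have h1 : ((2 : ℕ) : F) = 0 := by exact_mod_cast h0
    rw [CharP.cast_eq_zero_iff F p] at h1
    exact hp2 ((Nat.prime_dvd_prime_iff_eq hp Nat.prime_two).1 h1)
  have hlt : H < omegaGL (quadFormOdd 3 F) := lt_of_le_of_ne hH (fun h => hne h.ge)
  obtain ⟨Q, hQ, hQn⟩ := H883.Bridge.exists_quadraticForm (H883.Bridge.isNondegenerateQuadraticForm_odd hodd 3)
  have hH' : H ≤ omegaGL (Q : (Unit ⊕ (Fin 3 ⊕ Fin 3) → F) → F) := by rw [hQ]; exact hH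
  have hndf := H925.isND_of_nondeg hQn
  have h7 : Fintype.card (Unit ⊕ (Fin 3 ⊕ Fin 3)) = 7 := by simp
  obtain ⟨P, hP, -⟩ := to_residual h7 hQn (hH'.trans (H922.omegaGL_le _))
    (fun g hg hs => H922.scalars_inf_omegaGL _ hndf (by rw [h7]; decide) (hH' hg) hs) hirr hp hf hF hr hb hd
  have c : D7 p f Q H P r a := ⟨hp, hch, h2, h7, hQn, hH', hP, hf, hF, h31, hr, hb, hd⟩
  exact ⟨P, hP, c.main hk
    (fun hT => H922.OmGL.not_pomega hodd (by norm_num) hlt hP.le (core_of_residual hP) hT)⟩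

end Cfsg.Agent.H856.Om7
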