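import Cfsg.Agent.H856.Om7.Ree
import Cfsg.Agent.SmallSimple.S1000.PSLFacts

/-!
# Residual subgroups of `Ω₇(q)` with a large primitive prime power of order 6: cross characteristic (helper856)
-/

set_option autoImplicit false
set_option linter.unusedSectionVars false

namespace Cfsg.Agent.H856.Om7

open QuadraticMap Matrix Cfsg Cfsg.Geo Cfsg.Agent.H915.LD Cfsg.Agent.H936.List12 Cfsg.Agent.H912.Bd
  Cfsg.Agent.H912.Five
open Cfsg.Agent.LieClassical.OrthCore Cfsg.Agent.H856.Tz Cfsg.Agent.H884.El

universe u v

/-! ### orders of automorphism groups -/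

section cards

variable {K : Type v} [Field K] [Fintype K]

theorem card_aut_l2 {p f q : ℕ} [Fact p.Prime] (hf : 1 ≤ f) (hK : Fintype.card K = p ^ f) (hq : p ^ f = q) (h4 : 4 ≤ q) :
    Nat.card (MulAut (ProjectiveSpecialLinearGroup (Fin 2) K)) * (q - 1) = f * ((q ^ 2 - 1) * (q ^ 2 - q)) := by
  rw [S0813.result p f hf hK 2 le_rfl (fun _ => by omega), if_pos rfl, one_mul]
  have h1 := ClassicalGeometry.PSL2Basic.card_PGL_mul (Fin 2) K
  rw [Matrix.card_GL_field, Fin.prod_univ_two, hK, hq] at h1
  rw [mul_assoc, h1]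
  simp

theorem l27 (hK : Fintype.card K = 7) : Nat.card (MulAut (ProjectiveSpecialLinearGroup (Fin 2) K)) = 336 := by
  have : Fact (Nat.Prime 7) := ⟨by norm_num⟩
  have h := card_aut_l2 (p := 7) (f := 1) (q := 7) le_rfl (by rw [hK]; norm_num) (by norm_num) (by norm_num)
  norm_num at h
  omega

theorem l28 (hK : Fintype.card K = 8) : Nat.card (MulAut (ProjectiveSpecialLinearGroup (Fin 2) K)) = 1512 := by
  have : Fact (Nat.Prime 2) := ⟨by norm_num⟩
  have h := card_aut_l2 (p := 2) (f := 3) (q := 8) (by norm_num) (by rw [hK]; norm_num) (by norm_num) (by norm_num)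
  norm_num at h
  omega

theorem l213 (hK : Fintype.card K = 13) : Nat.card (MulAut (ProjectiveSpecialLinearGroup (Fin 2) K)) = 2184 := by
  have : Fact (Nat.Prime 13) := ⟨by norm_num⟩
  have h := card_aut_l2 (p := 13) (f := 1) (q := 13) le_rfl (by rw [hK]; norm_num) (by norm_num) (by norm_num)
  norm_num at h
  omega

theorem u33 (hK : Fintype.card K = 9) : Nat.card (MulAut (PSU 3 K 3)) = 12096 := by
  have : Fact (Nat.Prime 3) := ⟨by norm_num⟩
  have h := S0815.result (F := K) 3 1 le_rfl (q := 3) (by norm_num) (by rw [hK]; norm_num) 3 le_rfl (by norm_num)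
  rw [SmallSimple.PSLFacts.card_psu_three_three hK] at h
  norm_num at h
  exact h

theorem card_psp_three (hK : Fintype.card K = 2) : Nat.card (PSp 3 K) = 1451520 := by
  have h1 := Cfsg.Agent.LieClassical.SympCount.card_symplecticGroup (F := K) 3
  have h2 := Cfsg.Agent.LieClassical.SympCenter.card_center (F := K) (m := 3) (by norm_num)
  have h3 := Subgroup.card_eq_card_quotient_mul_card_subgroup (Subgroup.center (Matrix.symplecticGroup (Fin 3) K))
  change _ = Nat.card (PSp 3 K) * _ at h3
  rw [h1, h2, hK] at h3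
  norm_num [Finset.prod_range_succ] at h3
  omega

theorem sp62 (hK : Fintype.card K = 2) : Nat.card (MulAut (PSp 3 K)) = 1451520 := by
  have : Fact (Nat.Prime 2) := ⟨by norm_num⟩
  have h := S0814.result (F := K) 2 1 le_rfl (by rw [hK]; norm_num) 3 (by norm_num) (by norm_num)
  rw [card_psp_three hK] at h
  norm_num at h
  exact h

end cards

theorem small_of_dvd {M N : ℕ} (h : M ∣ N) (hN : Small N) : Small M := fun r a hr h6 hd => hN r a hr h6 (hd.trans h)

theorem small336 : Small 336 := small_of (k := 1) (by norm_num) (by norm_num) (by norm_num)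
theorem small1512 : Small 1512 := small_of (k := 1) (by norm_num) (by norm_num) (by norm_num)
theorem small2184 : Small 2184 := small_of (k := 1) (by norm_num) (by norm_num) (by norm_num)
theorem small12096 : Small 12096 := small_of (k := 1) (by norm_num) (by norm_num) (by norm_num)
theorem smallSp : Small 1451520 := small_of (k := 1) (by norm_num) (by norm_num) (by norm_num)
theorem small13 : Small (13 : ℕ).factorial :=
  small_of (k := 1) (by rw [show (13 : ℕ).factorial = 6227020800 by decide, pow_one])
    (by rw [show (13 : ℕ).factorial = 6227020800 by decide]; norm_num)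
    (by rw [show (13 : ℕ).factorial = 6227020800 by decide]; norm_num)

variable {ι : Type} [Fintype ι] [DecidableEq ι] {F : Type u} [Field F]

namespace D7

variable [Fintype F] {p f r a : ℕ} {Q : QuadraticForm F (ι → F)} {H P : Subgroup (GL ι F)} (c : D7 p f Q H P r a)
include c

/-- cross characteristic -/
theorem cross {P' : Subgroup (GL (Fin 7) F)} (h' : Cop P P') (h : CandD p 7 (Soc P')) : False := by
  have := Fact.mk c.prime
  have := c.charP
  obtain ⟨s⟩ := h'.iso
  have hseven := c.seven
  have h2 := c.ne_two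
  rcases h with h | h | h | ⟨-, -, h⟩ | h
  · -- alternating groups
    obtain ⟨m, h5, h14, -, -, hm14, ⟨e0⟩⟩ := h
    have e := s.trans e0
    have hm13 : m ≤ 13 := by
      by_contra hcon
      have := hm14 (by omega)
      omega
    rcases (show m = 5 ∨ m = 6 ∨ 7 ≤ m by omega) with rfl | rfl | hm7
    · by_cases hp5 : p = 5
      · subst hp5
        obtain ⟨f⟩ := Cfsg.Agent.S0253.result (F := ZMod 5) (ZMod.card 5)
        exact c.own_l2 (ZMod 5) (e.trans f.symm)
      · have h := H937.T2.a5_dims p c.core e hp5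
        rw [c.seven] at h
        exact absurd h (by decide)
    · by_cases hp3 : p = 3
      · subst hp3
        obtain ⟨K, _, _, -, _, ⟨f⟩⟩ := H937.T2.exists_nine e
        exact c.own_l2 K f
      · have h := H937.T2.a6_dims p c.core e
          (H937.T2.not_dvd_scalars c.core Nat.prime_three (by rw [c.seven]; norm_num)) hp3
        rw [c.seven] at h
        exact absurd h (by decide)
    · exact c.kill_small e (card_mulAut_alt hm7) (small_of_dvd (Nat.factorial_dvd_factorial hm13) small13)
  · -- classical groups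
    rcases h with ⟨q, hq, hpq, -, h⟩ | ⟨-, h8, -⟩ | ⟨h3, -, h⟩ | ⟨-, h1, -⟩ | ⟨-, h3, -, h⟩ | ⟨-, h8, -⟩ |
      ⟨-, h1, -⟩ | ⟨-, -, h⟩ | ⟨-, -, h⟩
    · obtain ⟨K, iK, iKf, hK, ⟨e0⟩⟩ := h
      have e := s.trans e0
      have h5 : 5 ≤ Fintype.card K := by
        rw [hK]
        revert hq
        simp only [Finset.mem_insert, Finset.mem_singleton]
        omega
      have h9 : Fintype.card K ≠ 9 := by
        rw [hK]
        revert hq
        simp only [Finset.mem_insert, Finset.mem_singleton]
        omega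
      have h1 := H464.Sl2.l2_degrees p c.core h5 h9 (by rw [hK]; exact hpq) e (by rw [hseven]; norm_num)
      rw [hseven] at h1
      rcases h1 with ⟨h1, h2⟩ | ⟨h1, h2⟩ | ⟨h1, h2⟩ | ⟨h1, h2⟩ | ⟨h1, h2⟩ | ⟨h1, h2⟩ | ⟨h1, h2⟩ | ⟨h1, h2⟩ | ⟨h1, h2⟩
      · exact absurd h2 (by decide)
      · exact c.kill_small e (l27 h1).dvd small336
      · exact c.kill_small e (l28 h1).dvd small1512
      · exact absurd h2 (by decide)
      · exact c.kill_small e (l213 h1).dvd small2184
      · exact absurd h2 (by decide)
      · exact absurd h2 (by decide)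
      · exact absurd h2 (by decide)
      · omega
    · omega
    · obtain ⟨K, iK, iKf, hK, ⟨e⟩⟩ := h
      exact c.kill_small (s.trans e) (u33 (by rw [hK]; norm_num)).dvd small12096
    · omega
    · obtain ⟨K, iK, iKf, hK, ⟨e⟩⟩ := h
      have h1 := H659.Sp4.u42_stage' c.core p h2 h3 (by rw [hseven]; norm_num) (k := K) (by rw [hK]; norm_num)
        (s.trans e)
      rw [hseven] at h1
      omega
    · omega
    · omega
    · obtain ⟨K, iK, iKf, hK, ⟨e⟩⟩ := h
      exact c.kill_small (s.trans e) (sp62 (by simpa using hK)).dvd smallSp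
    · obtain ⟨K, iK, iKf, hK, ⟨e⟩⟩ := h
      have h1 := H916.T8.om hK c.core p (s.trans e) c.two (by rw [hseven]; norm_num)
      rw [hseven] at h1
      omega
  · -- multipliers
    rcases h with ⟨-, h1, -⟩ | ⟨-, h1, -⟩
    · omega
    · omega
  · have h1 := H814.Sz8.core_sz8 h'.core c.two (by rw [Fintype.card_fin]; norm_num) h
    rw [Fintype.card_fin] at h1
    omega
  · -- sporadic groups
    rcases spor_cases h'.core h'.sd h with ⟨h11, ⟨e⟩⟩ | ⟨⟨e⟩⟩
    · exact c.j1 h11 (s.trans e)
    · exact (H48.Seven.no_orb p h'.core e H921.Spor.J2.J2_two Nat.prime_two (Ne.symm h2) (by norm_num)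
        (by norm_num)).elim

end D7

end Cfsg.Agent.H856.Om7
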