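import Cfsg.Agent.H856.Om7.Irr
import Cfsg.Agent.H856.Tz5
import Cfsg.Agent.H900.SU4.Base
import Cfsg.Agent.S0813
import Cfsg.Agent.S0814
import Cfsg.Agent.S0815
import Cfsg.Agent.StandardComponent.AltAut

/-!
# Residual subgroups of `Ω₇(q)` with a large primitive prime power of order 6: the setting (helper856)
-/

set_option autoImplicit false
set_option linter.unusedSectionVars false

namespace Cfsg.Agent.H856.Om7

open QuadraticMap Matrix Cfsg Cfsg.Geo Cfsg.Agent.H915.LD Cfsg.Agent.H936.List12 Cfsg.Agent.H912.Bd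
  Cfsg.Agent.H912.Five
open Cfsg.Agent.LieClassical.OrthCore Cfsg.Agent.H856.Tz Cfsg.Agent.H884.El

universe u v

variable {ι : Type} [Fintype ι] [DecidableEq ι] {F : Type u} [Field F]

/-- The setting. -/
structure D7 [Fintype F] (p f : ℕ) (Q : QuadraticForm F (ι → F)) (H P : Subgroup (GL ι F)) (r a : ℕ) : Prop where
  prime : p.Prime
  charP : CharP F p
  two : (2 : F) ≠ 0
  seven : Fintype.card ι = 7
  nd : Nondeg Q
  le : H ≤ omegaGL (Q : (ι → F) → F)
  res : IsResidualCore H P
  hf : 1 ≤ f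
  card : Nat.card F = p ^ f
  big : 31 ≤ p ^ f
  pp : PP p (f * 6) r
  thirteen : 13 < r ^ a
  dvd : r ^ a ∣ Nat.card H

namespace D7

variable [Fintype F] {p f r a : ℕ} {Q : QuadraticForm F (ι → F)} {H P : Subgroup (GL ι F)} (c : D7 p f Q H P r a)
include c

theorem core : Core P := core_of_residual c.res

theorem ne_two : p ≠ 2 := by
  rintro rfl
  have := c.charP
  exact c.two (by exact_mod_cast CharP.cast_eq_zero F 2)

theorem ndf : IsNondegenerateQuadraticForm (Q : (ι → F) → F) := H925.isND_of_nondeg c.nd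

theorem fixes : FixesQuadForm (matrixSet P) (Q : (ι → F) → F) := by
  rintro _ ⟨g, hg, rfl⟩ v
  exact H879.Nine.isometry_of_mem (c.le (c.res.le hg)) v

theorem fixQ : FixQ P := ⟨Q, c.ndf, c.fixes⟩

theorem sd : SD P := H879.Nine.sd_of_fixQ c.fixQ

theorem scal {g : GL ι F} (hg : g ∈ H) (hs : g ∈ scalars ι F) : g = 1 :=
  H922.scalars_inf_omegaGL _ c.ndf (by rw [c.seven]; decide) (c.le hg) hs

theorem bot : (scalars ι F).subgroupOf P = ⊥ := by
  rw [Subgroup.eq_bot_iff_forall]
  rintro ⟨g, hg⟩ hs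
  exact Subtype.ext (c.scal (c.res.le hg) hs)

/-- `P` is simple -/
noncomputable def soc : P ≃* Soc P := socEquiv c.bot

theorem cop : ∃ P' : Subgroup (GL (Fin 7) F), Cop P P' := by
  let e : ι ≃ Fin 7 := Fintype.equivFinOfCardEq c.seven
  have hC := H879.Rx.core_rx e c.core
  have hQ := H879.Rx.fixQ_rx e c.fixQ
  exact ⟨H879.Rx.rx e P, hC, hQ, H879.Nine.sd_of_fixQ hQ, H879.TL.scalars_bot_of_odd hC hQ (by decide),
    ⟨H879.Rx.socEqv e P⟩⟩

theorem card_dvd : Nat.card H ∣ Nat.card (MulAut (Soc P)) :=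
  H900.SU4.card_dvd_of_core c.res H.subtype (fun b => b.2) (fun b hb => Subtype.ext (c.scal b.2 hb))

theorem card_dvd_of {T : Type v} [Group T] (e : Soc P ≃* T) : Nat.card H ∣ Nat.card (MulAut T) := by
  rw [← Nat.card_congr (MulAut.congr e).toEquiv]
  exact c.card_dvd

theorem ppq : PP (p ^ f) 6 r := c.pp.of_pow c.hf

theorem q_pos : 1 ≤ p ^ f := by have := c.big; omega

theorem six : 6 ∣ r - 1 := six_dvd c.ppq

theorem r_lt : f * 6 < r := c.pp.lt (by have := c.hf; omega)

theorem a_ne : a ≠ 0 := by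
  rintro rfl
  have := c.thirteen
  norm_num at this

theorem r_dvd : r ∣ Nat.card H := (dvd_pow_self r c.a_ne).trans c.dvd

theorem not_pow {i : ℕ} (hi : ¬ 6 ∣ i) : ¬ r ∣ (p ^ f) ^ i - 1 := fun h => hi ((c.ppq.dvd_iff c.q_pos i).1 h)

theorem not_q : ¬ r ∣ p ^ f := c.ppq.not_dvd (by norm_num)

theorem not_f : ¬ r ∣ f := fun h => by
  have := Nat.le_of_dvd c.hf h
  have := c.r_lt
  omega

theorem not_two : ¬ r ∣ 2 := fun h => by
  have := Nat.le_of_dvd (by norm_num) h
  have := c.r_lt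
  have := c.hf
  omega

theorem not_three : ¬ r ∣ 3 := fun h => by
  have := Nat.le_of_dvd (by norm_num) h
  have := c.r_lt
  have := c.hf
  omega

/-- small automorphism groups -/
theorem kill_small {T : Type v} [Group T] (e : Soc P ≃* T) {N : ℕ} (hN : Nat.card (MulAut T) ∣ N) (h : Small N) : False := by
  have := h r a c.pp.prime c.six ((c.dvd.trans (c.card_dvd_of e)).trans hN)
  have := c.thirteen
  omega

/-- automorphism groups of order prime to `r` -/
theorem kill_r {T : Type v} [Group T] (e : Soc P ≃* T) (h : ¬ r ∣ Nat.card (MulAut T)) : False :=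
  h (c.r_dvd.trans (c.card_dvd_of e))

end D7

theorem card_mulAut_alt {n : ℕ} (hn : 7 ≤ n) : Nat.card (MulAut (alternatingGroup (Fin n))) ∣ n.factorial := by
  obtain ⟨ψ, hψ⟩ := StandardComponent.AltAut.exists_autHom n hn
  have hinj : Function.Injective ψ := by
    intro a b hab
    ext x : 1
    apply Subtype.ext
    rw [hψ, hψ, hab]
  have h1 := Subgroup.card_dvd_of_injective ψ hinj
  have h2 : Nat.card (Equiv.Perm (Fin n)) = n.factorial := by
    rw [Nat.card_perm, Nat.card_eq_fintype_card, Fintype.card_fin]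
  rwa [h2] at h1

end Cfsg.Agent.H856.Om7
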