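import Cfsg.Agent.H856.Om7.Ctx
import Cfsg.Agent.S0280

/-!
# Residual subgroups of `Ω₇(q)` with a large primitive prime power of order 6: own characteristic (helper856)
-/

set_option autoImplicit false
set_option linter.unusedSectionVars false

namespace Cfsg.Agent.H856.Om7

open QuadraticMap Matrix Cfsg Cfsg.Geo Cfsg.Agent.H915.LD Cfsg.Agent.H936.List12 Cfsg.Agent.H912.Bd
  Cfsg.Agent.H912.Five
open Cfsg.Agent.LieClassical.OrthCore Cfsg.Agent.H856.Tz Cfsg.Agent.H884.El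

universe u v

variable {ι : Type} [Fintype ι] [DecidableEq ι] {F : Type u} [Field F]

/-- the conclusion -/
def Concl6 [Fintype F] (p f : ℕ) (H P : Subgroup (GL ι F)) : Prop :=
  Nonempty (Soc P ≃* Lie.chevG2.group F) ∨
    ((p ^ f) ^ 3 * ((p ^ f) ^ 3 + 1) * (p ^ f - 1) ≤ Nat.card P ∧ ∀ s, PP p (f * 3) s → ¬ s ∣ Nat.card H)

/-- primes dividing `|GL_n(q)|` -/
theorem pow_of_dvd_GL {E : Type v} [Field E] [Fintype E] {q n r : ℕ} (hE : Fintype.card E = q) (hr : r.Prime)
    (hq : ¬ r ∣ q) (h : r ∣ Nat.card (GL (Fin n) E)) : ∃ i, 1 ≤ i ∧ i ≤ n ∧ r ∣ q ^ i - 1 := by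
  rw [Matrix.card_GL_field, hE] at h
  obtain ⟨i, -, hi⟩ := (hr.prime.dvd_finset_prod_iff _).1 h
  have hi2 : (i : ℕ) < n := i.2
  have e : q ^ n - q ^ (i : ℕ) = q ^ (i : ℕ) * (q ^ (n - i) - 1) := by
    rw [Nat.mul_sub, mul_one, ← pow_add]
    congr 2
    omega
  rw [e] at hi
  rcases hr.dvd_mul.1 hi with h1 | h1
  · exact absurd (hr.dvd_of_dvd_pow h1) hq
  · exact ⟨n - i, by omega, by omega, h1⟩

namespace D7

variable [Fintype F] {p f r a : ℕ} {Q : QuadraticForm F (ι → F)} {H P : Subgroup (GL ι F)} (c : D7 p f Q H P r a)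
include c

theorem psl_aut {E : Type v} [Field E] [Fintype E] (hE : Fintype.card E = p ^ f) {n : ℕ} (hn : n = 2 ∨ n = 3) :
    ¬ r ∣ Nat.card (MulAut (ProjectiveSpecialLinearGroup (Fin n) E)) := by
  have := Fact.mk c.prime
  have h31 := c.big
  intro h
  rw [S0813.result p f c.hf hE n (by omega) (fun _ => by omega)] at h
  have hr := c.pp.prime
  rcases hr.dvd_mul.1 h with h1 | h1
  · rcases hr.dvd_mul.1 h1 with h2 | h2
    · split_ifs at h2
      · exact hr.one_lt.ne' (Nat.dvd_one.1 h2)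
      · exact c.not_two h2
    · exact c.not_f h2
  · have h2 : r ∣ Nat.card (GL (Fin n) E) := h1.trans (Subgroup.card_quotient_dvd_card _)
    obtain ⟨i, h3, h4, h5⟩ := pow_of_dvd_GL hE hr c.not_q h2
    exact c.not_pow (fun h6 => by have := Nat.le_of_dvd (by omega) h6; omega) h5

/-- `L₂` -/
theorem own_l2 (E : Type v) [Field E] [Fintype E] [CharP E p] (e : Soc P ≃* ProjectiveSpecialLinearGroup (Fin 2) E) :
    False := by
  have := Fact.mk c.prime
  have := c.charP
  have hEF := H875.Psl2.card_eq_of_not_pow p c.core e (H875.PslRows.not_pow (by rw [c.seven]; omega))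
  refine c.kill_r e (c.psl_aut ?_ (Or.inl rfl))
  rw [hEF, ← Nat.card_eq_fintype_card, c.card]

/-- `L₃` -/
theorem own_l3 (E : Type v) [Field E] [Fintype E] [CharP E p] (e : Soc P ≃* ProjectiveSpecialLinearGroup (Fin 3) E) :
    False := by
  have := Fact.mk c.prime
  have := c.charP
  have hEF := (H911.Ad.sd_psl3 p c.core c.sd e (by rw [c.seven]; norm_num)).1
  refine c.kill_r e (c.psl_aut ?_ (Or.inr rfl))
  rw [← Nat.card_eq_fintype_card, ← hEF, c.card]

/-- `G₂` -/
theorem own_g2 (K : Type) [Field K] [Fintype K] [CharP K p] (h3 : 3 ≤ Fintype.card K)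
    (e : Soc P ≃* Lie.chevG2.group K) : Concl6 p f H P := by
  have := Fact.mk c.prime
  have := c.charP
  obtain ⟨-, -, ⟨σ⟩, -, -⟩ := H927.G2.core_g2 p c.core (by rwa [Nat.card_eq_fintype_card]) e
    (by rw [c.seven]; norm_num)
  obtain ⟨e1⟩ := H638.G2Iso.equiv (F := K)
  obtain ⟨e2⟩ := g2_congr σ
  obtain ⟨e3⟩ := H638.G2Iso.equiv (F := F)
  exact Or.inl ⟨((e.trans e1.symm).trans e2).trans e3⟩

/-- `U₃` -/
theorem own_u3 (E : Type) [Field E] [Fintype E] [CharP E p] {q : ℕ} (hE : Fintype.card E = q ^ 2) (hq : 3 ≤ q)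
    (e : Soc P ≃* PSU 3 E q) : Concl6 p f H P := by
  have := Fact.mk c.prime
  have := c.charP
  have h31 := c.big
  have hqF := H929.U3.card_psu3_sd p c.core c.sd hq hE e (by rw [c.seven]; norm_num)
  have hqf : q = p ^ f := by rw [← hqF, c.card]
  have hp3 : p = 3 := by
    rcases H929.U3.core_psu3_sd p c.core hq hE e (by rw [c.seven]; norm_num) c.sd with h | h
    · exact h.1
    · rw [c.seven] at h; omega
  have hg : Nat.gcd 3 (q + 1) = 1 := by
    refine (Nat.Prime.coprime_iff_not_dvd Nat.prime_three).2 fun h => ?_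
    have h1 : 3 ∣ q := by
      rw [hqf, hp3]
      exact dvd_pow_self 3 (by have := c.hf; omega)
    omega
  have hord : Nat.card (PSU 3 E q) = q ^ 3 * ((q ^ 2 - 1) * (q ^ 3 + 1)) := by
    have h1 := S0280.result hE 3 (by norm_num)
    rw [hg, one_mul] at h1
    simp only [Finset.prod_range_succ, Finset.prod_range_zero, one_mul, Nat.even_iff] at h1
    norm_num at h1
    have h2 : (q + 1) * Nat.card (PSU 3 E q) = (q + 1) * (q ^ 3 * ((q ^ 2 - 1) * (q ^ 3 + 1))) := by
      rw [h1]; ring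
    exact Nat.eq_of_mul_eq_mul_left (by omega) h2
  right
  rw [← hqf]
  have hq31 : 31 ≤ q := by omega
  have hcP : Nat.card P = q ^ 3 * ((q ^ 2 - 1) * (q ^ 3 + 1)) := by
    rw [Nat.card_congr c.soc.toEquiv, Nat.card_congr e.toEquiv, hord]
  constructor
  · rw [hcP, mul_assoc, mul_comm (q ^ 3 + 1)]
    refine Nat.mul_le_mul_left _ (Nat.mul_le_mul_right _ ?_)
    have : q ≤ q ^ 2 := Nat.le_self_pow (by norm_num) q
    omega
  · intro s hs h
    have h1 : s ∣ Nat.card (MulAut (PSU 3 E q)) := h.trans (c.card_dvd_of e)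
    rw [S0815.result p f c.hf hqf hE 3 le_rfl (by omega), hg, one_mul, hord] at h1
    have hsq : PP q 3 s := by rw [hqf]; exact hs.of_pow c.hf
    have hq1 : 1 ≤ q := by omega
    have hlt : f * 3 < s := hs.lt (by have := c.hf; omega)
    have hs2 : ¬ s ∣ 2 := fun h => by have := Nat.le_of_dvd (by norm_num) h; have := c.hf; omega
    have hp := hs.prime
    rcases hp.dvd_mul.1 h1 with h2 | h2
    · rcases hp.dvd_mul.1 h2 with h3 | h3
      · exact hs2 h3
      · have := Nat.le_of_dvd c.hf h3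
        omega
    rcases hp.dvd_mul.1 h2 with h3 | h3
    · exact hsq.not_dvd (by norm_num) (hp.dvd_of_dvd_pow h3)
    rcases hp.dvd_mul.1 h3 with h4 | h4
    · have := (hsq.dvd_iff hq1 2).1 h4
      omega
    · have h5 : s ∣ q ^ 3 - 1 := (hsq.dvd_iff hq1 3).2 dvd_rfl
      apply hs2
      have h6 : s ∣ (q ^ 3 + 1) - (q ^ 3 - 1) := Nat.dvd_sub h4 h5
      have h7 : 1 ≤ q ^ 3 := Nat.one_le_pow _ _ hq1
      rwa [show q ^ 3 + 1 - (q ^ 3 - 1) = 2 by omega] at h6

end D7

end Cfsg.Agent.H856.Om7
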