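import Cfsg.Agent.H856.Om7.Own
import Cfsg.Agent.S2127
import Cfsg.Agent.S2065
import Cfsg.Agent.LieRecognition.ReeFinal
import Cfsg.Agent.Schreier.JOne

/-!
# Residual subgroups of `Ω₇(q)` with a large primitive prime power of order 6: Ree groups and `J₁` (helper856)
-/

set_option autoImplicit false
set_option linter.unusedSectionVars false

namespace Cfsg.Agent.H856.Om7

open QuadraticMap Matrix Cfsg Cfsg.Geo Cfsg.Agent.H915.LD Cfsg.Agent.H936.List12 Cfsg.Agent.H912.Bd
  Cfsg.Agent.H912.Five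
open Cfsg.Agent.LieClassical.OrthCore Cfsg.Agent.H856.Tz Cfsg.Agent.H884.El

universe u v

/-- `|Aut T|` divides `|Out T| |T|` -/
theorem card_mulAut_dvd {T : Type v} [Group T] [Finite T] : Nat.card (MulAut T) ∣ Nat.card (Out T) * Nat.card T := by
  have h1 := Subgroup.card_eq_card_quotient_mul_card_subgroup (Inn T)
  rw [h1]
  refine Nat.mul_dvd_mul_left _ ?_
  have h2 : Nat.card (Inn T) = Nat.card (MulAut.conj (G := T)).range := rfl
  rw [h2]
  exact Subgroup.card_range_dvd _

variable {ι : Type} [Fintype ι] [DecidableEq ι] {F : Type u} [Field F]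

namespace D7

variable [Fintype F] {p f r a : ℕ} {Q : QuadraticForm F (ι → F)} {H P : Subgroup (GL ι F)} (c : D7 p f Q H P r a)
include c

/-- Ree groups -/
theorem own_ree (hp3 : p = 3) (h : Lie.IsoRee (Soc P)) : Concl6 p f H P := by
  have := c.charP
  have hchar := c.charP
  have h31 := c.big
  subst hp3
  obtain ⟨K, _, _, m, hm, hK, ⟨e⟩⟩ := h
  obtain ⟨-, hcF, -⟩ := H141.ReeK.ree_tri c.core hm hK e (by rw [c.seven]; norm_num)
  set q := 3 ^ f with hq
  have hqK : 3 ^ (2 * m + 1) = q := by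
    rw [← hK, ← Nat.card_eq_fintype_card, ← hcF, c.card]
  have hmf : 2 * m + 1 = f := Nat.pow_right_injective (by norm_num : 2 ≤ 3) hqK
  have hord := LieRecognition.ReeFinal.card hK
  rw [hqK] at hord
  have hcP : Nat.card P = q ^ 3 * (q - 1) * (q ^ 3 + 1) := by
    rw [Nat.card_congr c.soc.toEquiv, Nat.card_congr e.toEquiv, hord]
  have hfin : Finite ↥(Lie.twistedG2 K (3 ^ m)) := by
    apply Nat.finite_of_card_ne_zero
    rw [hord]
    have h1 : 0 < q ^ 3 := by positivity
    exact (Nat.mul_pos (Nat.mul_pos h1 (by omega)) (by omega)).ne'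
  right
  constructor
  · rw [hcP]
    exact le_of_eq (by ring)
  · intro s hs h
    have h1 : s ∣ Nat.card (MulAut ↥(Lie.twistedG2 K (3 ^ m))) := h.trans (c.card_dvd_of e)
    have h2 := h1.trans card_mulAut_dvd
    rw [S2127.result hm hK, hord, hmf] at h2
    have hsq : PP q 3 s := hs.of_pow c.hf
    have hq1 : 1 ≤ q := by omega
    have hlt : f * 3 < s := hs.lt (by have := c.hf; omega)
    have hp := hs.prime
    rcases hp.dvd_mul.1 h2 with h3 | h3
    · have := Nat.le_of_dvd c.hf h3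
      omega
    rcases hp.dvd_mul.1 h3 with h4 | h4
    · rcases hp.dvd_mul.1 h4 with h5 | h5
      · exact hsq.not_dvd (by norm_num) (hp.dvd_of_dvd_pow h5)
      · have := (hsq.dvd_iff hq1 1).1 (by rwa [pow_one])
        omega
    · have h5 : s ∣ q ^ 3 - 1 := (hsq.dvd_iff hq1 3).2 dvd_rfl
      have h6 : s ∣ (q ^ 3 + 1) - (q ^ 3 - 1) := Nat.dvd_sub h4 h5
      have h7 : 1 ≤ q ^ 3 := Nat.one_le_pow _ _ hq1
      rw [show q ^ 3 + 1 - (q ^ 3 - 1) = 2 by omega] at h6
      have := Nat.le_of_dvd (by norm_num) h6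
      have := c.hf
      omega

/-- `J₁` -/
theorem j1 (hp : p = 11) (e : Soc P ≃* Spor.J1) : False := by
  subst hp
  have hfin : Finite Spor.J1 := Nat.finite_of_card_ne_zero (by rw [Schreier.JOne.card_J1]; norm_num)
  have h1 : r ∣ Nat.card (MulAut Spor.J1) := c.r_dvd.trans (c.card_dvd_of e)
  have h2 := h1.trans card_mulAut_dvd
  rw [S2065.result, one_mul, Schreier.JOne.card_J1] at h2
  have hr := c.pp.prime
  have h6 := c.six
  have hlt := c.r_lt
  have hf := c.hf
  have h3 : r ∣ 2 ^ 3 * (3 * (5 * (7 * (11 * 19)))) := by norm_num; exact h2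
  have hord := c.pp.ord
  have key : ∀ k : ℕ, k ∣ 3 → orderOf ((11 : ℕ) : ZMod r) ∣ k → False := by
    intro k hk h
    rw [hord] at h
    have h4 := Nat.le_of_dvd (by norm_num) (h.trans hk)
    omega
  have pr : ∀ m : ℕ, m.Prime → r ∣ m → r = m := fun m hm h => (Nat.prime_dvd_prime_iff_eq hr hm).1 h
  rcases hr.dvd_mul.1 h3 with h4 | h4
  · have := pr 2 (by norm_num) (hr.dvd_of_dvd_pow h4)
    omega
  rcases hr.dvd_mul.1 h4 with h4 | h4
  · have := pr 3 (by norm_num) h4
    omega
  rcases hr.dvd_mul.1 h4 with h4 | h4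
  · have := pr 5 (by norm_num) h4
    omega
  rcases hr.dvd_mul.1 h4 with h4 | h4
  · have h5 := pr 7 (by norm_num) h4
    subst h5
    exact key 3 dvd_rfl (orderOf_dvd_of_pow_eq_one (by decide))
  rcases hr.dvd_mul.1 h4 with h4 | h4
  · have := pr 11 (by norm_num) h4
    omega
  · have h5 := pr 19 (by norm_num) h4
    subst h5
    exact key 3 dvd_rfl (orderOf_dvd_of_pow_eq_one (by decide))

end D7

end Cfsg.Agent.H856.Om7
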